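import Mathlib

/-!
# Iterated cores of a subgroup and a conjugate along a filtration

`A₀ = P`, `B₀ = n P n⁻¹`, `A_{i+1} = core_P (A_i ⊓ B_i)`, `B_{i+1} = core_{n P n⁻¹} (A_i ⊓ B_i)`.
If `V` is a descending chain of `P`-invariant subgroups with `V 0 = P`, `n V_{k+1} n⁻¹, n⁻¹ V_{k+1} n ≤ V_k`,
and every `P`-invariant subgroup of `V_k ⊓ n V_k n⁻¹` (resp. `V_k ⊓ n⁻¹ V_k n`) lies in `V_{k+1}`, then
`A_k = V_k` and `B_k = n V_k n⁻¹`.
-/

set_option autoImplicit false

namespace Cfsg.Agent.Helper19.E8C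

variable {G : Type*} [Group G]

/-- the core of `X ⊓ M` in `M`, as a subgroup of `G` -/
def coreIn (X M : Subgroup G) : Subgroup G := ((X.subgroupOf M).normalCore).map M.subtype

theorem mem_coreIn (X M : Subgroup G) (g : G) :
    g ∈ coreIn X M ↔ g ∈ M ∧ ∀ m ∈ M, m * g * m⁻¹ ∈ X := by
  unfold coreIn
  constructor
  · rintro ⟨⟨x, hxM⟩, hx, rfl⟩
    refine ⟨hxM, fun m hm => ?_⟩
    have := hx ⟨m, hm⟩
    rw [Subgroup.mem_subgroupOf] at this
    simpa using this
  · rintro ⟨hgM, h⟩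
    refine ⟨⟨g, hgM⟩, ?_, rfl⟩
    intro b
    rw [Subgroup.mem_subgroupOf]
    simpa using h b b.2

theorem coreIn_le_left (X M : Subgroup G) : coreIn X M ≤ X := by
  intro g hg
  have := ((mem_coreIn X M g).mp hg).2 1 (one_mem _)
  simpa using this

theorem coreIn_le_right (X M : Subgroup G) : coreIn X M ≤ M :=
  fun g hg => ((mem_coreIn X M g).mp hg).1

theorem le_normalizer_coreIn (X M : Subgroup G) : M ≤ Subgroup.normalizer (coreIn X M : Set G) := by
  intro m hm
  rw [Subgroup.mem_normalizer_iff]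
  intro g
  constructor
  · intro hg
    rw [mem_coreIn] at hg ⊢
    refine ⟨M.mul_mem (M.mul_mem hm hg.1) (M.inv_mem hm), fun m' hm' => ?_⟩
    have := hg.2 (m' * m) (M.mul_mem hm' hm)
    simpa [mul_assoc] using this
  · intro hg
    rw [mem_coreIn] at hg ⊢
    have hgM : g ∈ M := by
      have := M.mul_mem (M.mul_mem (M.inv_mem hm) hg.1) hm
      simpa [mul_assoc] using this
    refine ⟨hgM, fun m' hm' => ?_⟩
    have := hg.2 (m' * m⁻¹) (M.mul_mem hm' (M.inv_mem hm))
    simpa [mul_assoc] using this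

theorem le_coreIn {X M Y : Subgroup G} (hYX : Y ≤ X) (hYM : Y ≤ M) (hn : M ≤ Subgroup.normalizer (Y : Set G)) :
    Y ≤ coreIn X M := by
  intro y hy
  rw [mem_coreIn]
  exact ⟨hYM hy, fun m hm => hYX ((Subgroup.mem_normalizer_iff.mp (hn hm) y).mp hy)⟩

/-- conjugating the data conjugates the core -/
theorem coreIn_map_conj (X M : Subgroup G) (n : G) :
    (coreIn X M).map (MulAut.conj n).toMonoidHom =
      coreIn (X.map (MulAut.conj n).toMonoidHom) (M.map (MulAut.conj n).toMonoidHom) := by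
  ext g
  simp only [Subgroup.mem_map, MulEquiv.coe_toMonoidHom, MulAut.conj_apply, mem_coreIn]
  constructor
  · rintro ⟨x, ⟨hxM, hx⟩, rfl⟩
    refine ⟨⟨x, hxM, rfl⟩, ?_⟩
    rintro _ ⟨m, hm, rfl⟩
    refine ⟨m * x * m⁻¹, hx m hm, ?_⟩
    group
  · rintro ⟨⟨x, hxM, rfl⟩, h⟩
    refine ⟨x, ⟨hxM, fun m hm => ?_⟩, rfl⟩
    obtain ⟨z, hz, e⟩ := h (n * m * n⁻¹) ⟨m, hm, rfl⟩
    have : z = m * x * m⁻¹ := by
      have h1 : n * z * n⁻¹ = n * (m * x * m⁻¹) * n⁻¹ := by rw [e]; group
      exact mul_left_cancel (mul_right_cancel h1)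
    rw [← this]
    exact hz

theorem mem_map_conj_iff (X : Subgroup G) (n g : G) :
    g ∈ X.map (MulAut.conj n).toMonoidHom ↔ n⁻¹ * g * n ∈ X := by
  simp only [Subgroup.mem_map, MulEquiv.coe_toMonoidHom, MulAut.conj_apply]
  constructor
  · rintro ⟨x, hx, rfl⟩
    have : n⁻¹ * (n * x * n⁻¹) * n = x := by group
    rw [this]
    exact hx
  · intro h
    exact ⟨n⁻¹ * g * n, h, by group⟩

/-- the iterated cores follow the filtration -/
theorem iterated_cores (P : Subgroup G) (n : G) (V : ℕ → Subgroup G)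
    (hV0 : V 0 = P)
    (hmono : ∀ k, V (k + 1) ≤ V k)
    (hnorm : ∀ k, P ≤ Subgroup.normalizer (V k : Set G))
    (hconj : ∀ k, ∀ v ∈ V (k + 1), n * v * n⁻¹ ∈ V k ∧ n⁻¹ * v * n ∈ V k)
    (hup : ∀ k (Y : Subgroup G), P ≤ Subgroup.normalizer (Y : Set G) → (∀ y ∈ Y, y ∈ V k ∧ n⁻¹ * y * n ∈ V k) → Y ≤ V (k + 1))
    (hup' : ∀ k (Y : Subgroup G), P ≤ Subgroup.normalizer (Y : Set G) → (∀ y ∈ Y, y ∈ V k ∧ n * y * n⁻¹ ∈ V k) → Y ≤ V (k + 1))
    (A B : ℕ → Subgroup G) (hA0 : A 0 = P) (hB0 : B 0 = P.map (MulAut.conj n).toMonoidHom)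
    (hA : ∀ i, A (i + 1) = ((A i ⊓ B i).subgroupOf P).normalCore.map P.subtype)
    (hB : ∀ i, B (i + 1) = ((A i ⊓ B i).subgroupOf (P.map (MulAut.conj n).toMonoidHom)).normalCore.map
      (P.map (MulAut.conj n).toMonoidHom).subtype) :
    ∀ k, A k = V k ∧ B k = (V k).map (MulAut.conj n).toMonoidHom := by
  have hVP : ∀ k, V k ≤ P := by
    intro k
    induction k with
    | zero => exact hV0.le
    | succ k ih => exact (hmono k).trans ih
  intro k
  induction k with
  | zero => exact ⟨hA0.trans hV0.symm, by rw [hB0, hV0]⟩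
  | succ k ih =>
    obtain ⟨ihA, ihB⟩ := ih
    have hA' : A (k + 1) = coreIn (V k ⊓ (V k).map (MulAut.conj n).toMonoidHom) P := by
      rw [hA k, ihA, ihB]; rfl
    have hB' : B (k + 1) = coreIn (V k ⊓ (V k).map (MulAut.conj n).toMonoidHom)
        (P.map (MulAut.conj n).toMonoidHom) := by
      rw [hB k, ihA, ihB]; rfl
    constructor
    · rw [hA']
      apply le_antisymm
      · apply hup k _ (le_normalizer_coreIn _ _)
        intro y hy
        have := coreIn_le_left _ _ hy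
        exact ⟨this.1, (mem_map_conj_iff _ _ _).mp this.2⟩
      · apply le_coreIn _ (hVP _) (hnorm _)
        intro v hv
        refine ⟨hmono k hv, (mem_map_conj_iff _ _ _).mpr (hconj k v hv).2⟩
    · rw [hB']
      -- conjugate back by `n⁻¹`
      have key : coreIn (V k ⊓ (V k).map (MulAut.conj n).toMonoidHom) (P.map (MulAut.conj n).toMonoidHom) =
          (coreIn ((V k).map (MulAut.conj n⁻¹).toMonoidHom ⊓ V k) P).map (MulAut.conj n).toMonoidHom := by
        rw [coreIn_map_conj]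
        congr 1
        ext g
        simp only [Subgroup.mem_inf, mem_map_conj_iff, inv_inv]
        constructor
        · rintro ⟨h1, h2⟩
          refine ⟨?_, h2⟩
          have : n * (n⁻¹ * g * n) * n⁻¹ = g := by group
          rw [this]; exact h1
        · rintro ⟨h1, h2⟩
          refine ⟨?_, h2⟩
          have : n * (n⁻¹ * g * n) * n⁻¹ = g := by group
          rw [this] at h1; exact h1
      rw [key]
      congr 1
      apply le_antisymm
      · apply hup' k _ (le_normalizer_coreIn _ _)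
        intro y hy
        have := coreIn_le_left _ _ hy
        refine ⟨this.2, ?_⟩
        have h1 := (mem_map_conj_iff _ _ _).mp this.1
        simpa using h1
      · apply le_coreIn _ (hVP _) (hnorm _)
        intro v hv
        refine ⟨?_, hmono k hv⟩
        show v ∈ (V k).map (MulAut.conj n⁻¹).toMonoidHom
        rw [mem_map_conj_iff]
        simpa using (hconj k v hv).1

end Cfsg.Agent.Helper19.E8C
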