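import Cfsg.Agent.Helper19.E8C.TabO

/-!
# Root tables of `E₈` for the level filtration at the branch node (S5751)

The `decide +kernel` checks live in the files `TabJ*`, `TabB*`, `TabR`, `TabL`, `TabP`, `TabD`, `TabO`, chained by
imports so that they are built one at a time (each needs about 10 GB).
-/

set_option autoImplicit false
set_option maxRecDepth 100000

namespace Cfsg.Agent.Helper19.E8C

open Cfsg Cfsg.Lie Cfsg.Agent.Helper18

/-- reflections in the nodes of `J` preserve the level -/
theorem lev_reflect_J : ∀ j < chevE8.rank, j ≠ 3 → ∀ s < chevE8.nroots,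
    lev (chevE8.reflectRoot j s) = lev s := by
  intro j hj hj3 s hs
  have hj8 : j < 8 := hj
  interval_cases j
  · exact lev_reflect_J0 s hs
  · exact lev_reflect_J1 s hs
  · exact lev_reflect_J2 s hs
  · exact absurd rfl hj3
  · exact lev_reflect_J4 s hs
  · exact lev_reflect_J5 s hs
  · exact lev_reflect_J6 s hs
  · exact lev_reflect_J7 s hs

/-- the reflection in the branch node changes the level by at most one, except at `± p₄` -/
theorem lev_reflect_B : ∀ s < chevE8.nroots, s ≠ 130 → s ≠ 109 →
    lev s - 1 ≤ lev (chevE8.reflectRoot 3 s) ∧ lev (chevE8.reflectRoot 3 s) ≤ lev s + 1 := by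
  intro s hs h130 h109
  have hs' : s < 240 := hs
  by_cases h : s < 120
  · exact lev_reflect_B_lo s h h109
  · have e : s = (s - 120) + 120 := by omega
    rw [e]
    exact lev_reflect_B_hi (s - 120) (by omega) (by omega)

end Cfsg.Agent.Helper19.E8C
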