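import Cfsg.Agent.Helper19.E8C.Defs
import Cfsg.Agent.Helper19.E8C.Tab
import Cfsg.Agent.S1047
import Cfsg.Agent.S1043

/-!
# `E₈(F)`, the maximal parabolic subgroup at the branch node: basic facts on `PJ`, `UL`, `lev`
-/

set_option autoImplicit false
set_option maxRecDepth 100000

namespace Cfsg.Agent.Helper19.E8C

open Cfsg Cfsg.Lie Cfsg.Agent.Helper18 Cfsg.Agent.Helper19.Poinc

theorem nroots_eq : chevE8.nroots = 240 := rfl

theorem rank_eq : chevE8.rank = 8 := rfl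

theorem isPosRoot_iff' (r : ℕ) : chevE8.IsPosRoot r ↔ 120 ≤ r ∧ r < chevE8.nroots :=
  isPosRoot_iff chevE8 _ (posOK_of_mem chevE8 hE8) r

theorem inRootSub_iff (r : ℕ) (hr : r < chevE8.nroots) : chevE8.InRootSub J r ↔ lev r = 0 := by
  rw [lev_eq_coroot r hr]
  unfold ChevalleyDatum.InRootSub J
  constructor
  · intro h
    exact h.2 3 (by decide) (by simp)
  · intro h
    refine ⟨hr, fun i _ hi => ?_⟩
    have : i = 3 := by simpa using hi
    rw [this]
    exact h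

theorem lev_neg (r : ℕ) (hr : r < chevE8.nroots) : lev (239 - r) = - lev r := by
  have := (lev_additive r hr).1
  rwa [neg_eq r hr] at this

theorem lev_nonneg_of_pos (r : ℕ) (hr : r < chevE8.nroots) (h : 120 ≤ r) : 0 ≤ lev r := by
  by_cases h0 : lev r = 0
  · rw [h0]
  · have := (one_le_lev_iff r hr).mpr ⟨h, h0⟩
    omega

variable (F : Type*) [Field F]

theorem xGL_mem_UL (r : ℕ) (hr : r < chevE8.nroots) (m : ℕ) (hm : (m : ℤ) ≤ lev r) (t : F) :
    xGL chevE8 F r t ∈ UL F m :=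
  Subgroup.subset_closure ⟨r, t, hr, hm, rfl⟩

theorem UL_mono {m m' : ℕ} (h : m ≤ m') : UL F m' ≤ UL F m := by
  unfold UL
  apply Subgroup.closure_mono
  rintro g ⟨r, t, hr, hm, rfl⟩
  exact ⟨r, t, hr, by omega, rfl⟩

theorem UL_eq_bot (m : ℕ) (hm : 7 ≤ m) : UL F m = ⊥ := by
  unfold UL
  rw [Subgroup.closure_eq_bot_iff]
  rintro g ⟨r, t, hr, hm', rfl⟩
  have := lev_le_six r hr
  omega

theorem PJ_eq : PJ F = chevE8.diagonalSubgroup F ⊔
    Subgroup.closure {g | ∃ (r : ℕ) (t : F), r < chevE8.nroots ∧ 0 ≤ lev r ∧ g = xGL chevE8 F r t} := by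
  have htri := triOK_of_mem chevE8 hE8
  unfold PJ
  rw [Cfsg.Agent.S1047.result (F := F) chevE8 hE8 J]
  congr 2
  ext g
  constructor
  · rintro ⟨r, t, hr, hg⟩
    have hgx : g = xGL chevE8 F r t := Units.ext (by rw [hg, xGL_val chevE8 _ htri])
    rcases hr with hr | hr
    · have h1 := (isPosRoot_iff' r).mp hr
      exact ⟨r, t, h1.2, lev_nonneg_of_pos r h1.2 h1.1, hgx⟩
    · exact ⟨r, t, hr.1, le_of_eq ((inRootSub_iff r hr.1).mp hr).symm, hgx⟩
  · rintro ⟨r, t, hr, h0, rfl⟩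
    refine ⟨r, t, ?_, xGL_val chevE8 _ htri r t⟩
    by_cases h1 : lev r = 0
    · exact Or.inr ((inRootSub_iff r hr).mpr h1)
    · left
      rw [isPosRoot_iff']
      exact ⟨((one_le_lev_iff r hr).mp (by omega)).1, hr⟩

theorem diag_le_PJ : chevE8.diagonalSubgroup F ≤ PJ F := by
  rw [PJ_eq]
  exact le_sup_left

theorem xGL_mem_PJ (r : ℕ) (hr : r < chevE8.nroots) (h0 : 0 ≤ lev r) (t : F) : xGL chevE8 F r t ∈ PJ F := by
  rw [PJ_eq]
  exact Subgroup.mem_sup_right (Subgroup.subset_closure ⟨r, t, hr, h0, rfl⟩)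

theorem UL_le_PJ (m : ℕ) : UL F m ≤ PJ F := by
  unfold UL
  rw [Subgroup.closure_le]
  rintro g ⟨r, t, hr, hm, rfl⟩
  exact xGL_mem_PJ F r hr (by omega) t

theorem UL_one_eq : UL F 1 = chevE8.unipotentRadical F J := by
  have htri := triOK_of_mem chevE8 hE8
  unfold UL ChevalleyDatum.unipotentRadical
  congr 1
  ext g
  constructor
  · rintro ⟨r, t, hr, hm, rfl⟩
    have h1 := (one_le_lev_iff r hr).mp (by exact_mod_cast hm)
    refine ⟨r, t, (isPosRoot_iff' r).mpr ⟨h1.1, hr⟩, ?_, xGL_val chevE8 _ htri r t⟩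
    rw [inRootSub_iff r hr]
    exact h1.2
  · rintro ⟨r, t, hr, hnr, hg⟩
    have hgx : g = xGL chevE8 F r t := Units.ext (by rw [hg, xGL_val chevE8 _ htri])
    have h1 := (isPosRoot_iff' r).mp hr
    rw [inRootSub_iff r h1.2] at hnr
    refine ⟨r, t, h1.2, ?_, hgx⟩
    have := (one_le_lev_iff r h1.2).mpr ⟨h1.1, hnr⟩
    exact_mod_cast this

theorem npGL_mem_PJ (j : ℕ) (hj : j < chevE8.rank) (hj3 : j ≠ 3) : npGL chevE8 F j ∈ PJ F := by
  unfold PJ ChevalleyDatum.parabolicSubgroup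
  apply Subgroup.mem_sup_right
  apply Subgroup.subset_closure
  exact ⟨j, hj3, hj, nWordGL_val chevE8 hE8 _ _⟩

theorem PJ_le_group : PJ F ≤ chevE8.group F := by
  obtain ⟨hBG, hNG, -⟩ := Cfsg.Agent.S1043.result (F := F) chevE8 hE8
  unfold PJ ChevalleyDatum.parabolicSubgroup
  apply sup_le hBG
  rw [Subgroup.closure_le]
  rintro g ⟨j, -, hj, hg⟩
  have : g = npGL chevE8 F j := Units.ext (by rw [hg, nWordGL_val chevE8 hE8])
  rw [this]
  exact hNG (nGL_mem_monomialSubgroup chevE8 hE8 _ (simple_lt chevE8 (simpleOK_of_mem chevE8 hE8) j hj))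

theorem nB_mem_group : nB F ∈ chevE8.group F := by
  obtain ⟨-, hNG, -⟩ := Cfsg.Agent.S1043.result (F := F) chevE8 hE8
  exact hNG (nGL_mem_monomialSubgroup chevE8 hE8 _
    (simple_lt chevE8 (simpleOK_of_mem chevE8 hE8) 3 (by decide)))

variable {F}

/-- in characteristic `2` the Cartan integer at `jOdd r` is `1` -/
theorem cartan_odd_cast (h2 : (2 : F) = 0) (r : ℕ) (hr : r < chevE8.nroots) :
    ((chevE8.cartan (jOdd r) r : ℤ) : F) = 1 := by
  obtain ⟨-, h⟩ := jOdd_spec r hr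
  have e : chevE8.cartan (jOdd r) r = 2 * (chevE8.cartan (jOdd r) r / 2) + 1 := by omega
  rw [e]
  push_cast
  rw [h2, zero_mul, zero_add]

theorem bL_lt_iff (a b : chevE8.Idx) (k : ℕ) :
    bL a < bL b + k ↔ grW chevE8 lev a < grW chevE8 lev b + k := by
  unfold bL natLvl
  have := natLvl_nonneg (grW chevE8 lev) a
  have := natLvl_nonneg (grW chevE8 lev) b
  omega

end Cfsg.Agent.Helper19.E8C
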