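import Cfsg.Agent.Helper19.E8C.Facts
import Cfsg.Agent.Helper18.BNStruct

/-!
# S5751, piece (BOT1): the coordinate at `p₄` of an element of `U_J ∩ n P_J n⁻¹` vanishes
-/

set_option autoImplicit false
set_option maxRecDepth 100000

namespace Cfsg.Agent.Helper19.E8C

open Cfsg Cfsg.Lie Cfsg.Agent.Helper18 Cfsg.Agent.Helper19.Poinc

variable {F : Type*} [Field F]

/-- conjugation by `n_i⁻¹` -/
theorem bot1_conj_inv (h31 : NConjHyp chevE8 F) (i : ℕ) (hi : i < chevE8.rank) (s : ℕ) (hs : s < chevE8.nroots) :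
    ∃ η : ℤ, (η = 1 ∨ η = -1) ∧ ∀ t : F,
      (npGL chevE8 F i)⁻¹ * xGL chevE8 F s t * npGL chevE8 F i = xGL chevE8 F (chevE8.reflectRoot i s) ((η : F) * t) := by
  obtain ⟨η, hη, h⟩ := nGL_conj_xGL chevE8 hE8 h31 i (chevE8.reflectRoot i s) hi (reflect_lt i hi s hs)
  rw [reflectRoot_reflectRoot chevE8 hE8 i s hi hs] at h
  refine ⟨η, hη, fun t => ?_⟩
  have h1 := h ((η : F) * t)
  have hη2 : (η : F) * ((η : F) * t) = t := by
    rcases hη with rfl | rfl <;> simp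
  rw [hη2] at h1
  have h1' : npGL chevE8 F i * xGL chevE8 F (chevE8.reflectRoot i s) ((η : F) * t) =
      xGL chevE8 F s t * npGL chevE8 F i := h1
  rw [mul_assoc, ← h1']
  group

theorem bot1_list_conj (n : GL chevE8.Idx F) (X : Subgroup (GL chevE8.Idx F)) (L : List ℕ)
    (f : ℕ → GL chevE8.Idx F) (h : ∀ r ∈ L, n⁻¹ * f r * n ∈ X) : n⁻¹ * (L.map f).prod * n ∈ X := by
  induction L with
  | nil =>
    simp
  | cons a L ih =>
    rw [List.map_cons, List.prod_cons]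
    have e : n⁻¹ * (f a * (L.map f).prod) * n = (n⁻¹ * f a * n) * (n⁻¹ * (L.map f).prod * n) := by group
    rw [e]
    exact X.mul_mem (h a List.mem_cons_self) (ih fun r hr => h r (List.mem_cons_of_mem _ hr))

/-! ### (BOT1) -/
theorem cmp_bot_one (h31 : NConjHyp chevE8 F) (h2 : (2 : F) = 0) (hc : CmpFacts F) (hC : ConjFact F)
    (hQ : CollectFact F) (hx : XnegFact F) (y : GL chevE8.Idx F) (hy : y ∈ UL F 1)
    (hyn : (nB F)⁻¹ * y * nB F ∈ PJ F) : cmp y 130 (jOdd 130) = 0 := by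
  have h130 : (130 : ℕ) < chevE8.nroots := by decide
  have hl130 : lev 130 = ((1 : ℕ) : ℤ) := by rw [lev_simple_three]; rfl
  have hx130 : ∀ t : F, xGL chevE8 F 130 t ∈ UL F 1 :=
    fun t => xGL_mem_UL F 130 h130 1 (by rw [lev_simple_three]; norm_num) t
  obtain ⟨a, ha⟩ : ∃ a : F, a = cmp y 130 (jOdd 130) := ⟨_, rfl⟩
  rw [← ha]
  have hy2m : xGL chevE8 F 130 (-a) * y ∈ UL F 1 := mul_mem (hx130 _) hy
  have hc2 : cmp (xGL chevE8 F 130 (-a) * y) 130 (jOdd 130) = 0 := by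
    rw [hc.mul_UL 1 le_rfl _ _ (hx130 _) hy 130 _ hl130, hc.gen_self h2 130 h130, ← ha]
    ring
  obtain ⟨z, hz, e⟩ := hQ 1 le_rfl _ hy2m
  have hz' : (nB F)⁻¹ * z * nB F ∈ PJ F := UL_le_PJ F 1 (hC 1 le_rfl z hz).2
  have hprod : (nB F)⁻¹ * ((lvlList 1).map (fun r => xGL chevE8 F r
      (cmp (xGL chevE8 F 130 (-a) * y) r (jOdd r)))).prod * nB F ∈ PJ F := by
    apply bot1_list_conj
    intro r hr
    rw [mem_lvlList] at hr
    by_cases h : r = 130
    · subst h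
      rw [hc2, Cfsg.Agent.Helper19.Poinc.xGL_zero' chevE8 hE8]
      simp
    · obtain ⟨η, -, hη⟩ := bot1_conj_inv h31 3 (by decide) r hr.1
      have e' : (nB F)⁻¹ * xGL chevE8 F r (cmp (xGL chevE8 F 130 (-a) * y) r (jOdd r)) * nB F =
          xGL chevE8 F (chevE8.reflectRoot 3 r) ((η : F) * (cmp (xGL chevE8 F 130 (-a) * y) r (jOdd r))) :=
        hη _
      rw [e']
      apply xGL_mem_PJ F _ (reflect_lt 3 (by decide) r hr.1)
      have h109 : r ≠ 109 := by
        rintro rfl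
        have : lev 109 = -1 := by decide +kernel
        rw [this] at hr
        omega
      have := (lev_reflect_B r hr.1 h h109).1
      omega
  have hy2n : (nB F)⁻¹ * (xGL chevE8 F 130 (-a) * y) * nB F ∈ PJ F := by
    rw [e]
    have e' : ∀ p : GL chevE8.Idx F, (nB F)⁻¹ * (p * z) * nB F = ((nB F)⁻¹ * p * nB F) * ((nB F)⁻¹ * z * nB F) := by
      intro p; group
    rw [e']
    exact mul_mem hprod hz'
  have h3 : (nB F)⁻¹ * xGL chevE8 F 130 a * nB F ∈ PJ F := by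
    have e' : (nB F)⁻¹ * xGL chevE8 F 130 a * nB F =
        ((nB F)⁻¹ * y * nB F) * ((nB F)⁻¹ * (xGL chevE8 F 130 (-a) * y) * nB F)⁻¹ := by
      rw [← xGL_inv' chevE8 hE8 130 h130 a]
      group
    rw [e']
    exact mul_mem hyn (inv_mem hy2n)
  obtain ⟨η, hη1, hη⟩ := bot1_conj_inv h31 3 (by decide) 130 h130
  have hr : chevE8.reflectRoot 3 130 = 109 := by decide +kernel
  have e4 : (nB F)⁻¹ * xGL chevE8 F 130 a * nB F = xGL chevE8 F 109 ((η : F) * a) := by
    rw [← hr]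
    exact hη a
  rw [e4] at h3
  have h5 := hx _ h3
  rcases hη1 with rfl | rfl
  · simpa using h5
  · simpa using h5

end Cfsg.Agent.Helper19.E8C
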