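import Cfsg.Agent.Helper19.E8C.Facts
import Cfsg.Agent.Helper19.Unip.ChevK
import Cfsg.Agent.S1025

/-!
# S5751, piece (CORE) (hedge copy): a subgroup of `B` normalised by `P_J` lies in `U_J` when `H = 1`
-/

set_option autoImplicit false
set_option maxRecDepth 100000

namespace Cfsg.Agent.Helper19.E8C

open Cfsg Cfsg.Lie Cfsg.Agent.Helper18 Cfsg.Agent.Helper19.Poinc Cfsg.Agent.Helper19.Unip

variable {F : Type*} [Field F]

/-! ### (CORE) -/
theorem core_le_radical [Finite F] (hH : chevE8.diagonalSubgroup F = ⊥) (Y : Subgroup (GL chevE8.Idx F))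
    (hYB : Y ≤ chevE8.borelSubgroup F) (hYn : PJ F ≤ Subgroup.normalizer (Y : Set (GL chevE8.Idx F))) :
    Y ≤ UL F 1 := by
  have h25 : CommHyp chevE8 F :=
    fun r s hr hs h1 h2 t u => Cfsg.Agent.S1025.result chevE8 hE8 r s hr hs h1 h2 t u
  have h45 : H45 chevE8 F := fun i hi =>
    ⟨rootSubgroup_le_normalizer_Up chevE8 hE8 h25 i hi, Up_sup_rootSubgroup chevE8 hE8 i hi⟩
  obtain ⟨P, hB, hN, hS⟩ := exists_bnPair (F := F) chevE8 hE8 h25
  obtain ⟨n₀, hn₀, -, hint⟩ := exists_rel_longest chevE8 hE8 P hB hN hS h45 J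
  have hpar := parabolic_gensOf chevE8 hE8 P hB J
  have hBP : chevE8.borelSubgroup F ≤ PJ F := by
    unfold PJ ChevalleyDatum.parabolicSubgroup
    exact le_sup_left
  have hn₀P : ((n₀ : ↥(chevE8.group F)) : GL chevE8.Idx F) ∈ PJ F := by
    have h1 : (n₀ : ↥(chevE8.group F)) ∈ P.parabolic (gensOf chevE8 F J) := n₀.2
    have h2 : (n₀ : ↥(chevE8.group F)) ∈ (chevE8.parabolicSubgroup F J).subgroupOf (chevE8.group F) := hpar ▸ h1
    exact h2
  intro y hy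
  have hyP : y ∈ PJ F := hBP (hYB hy)
  have hyΓ : y ∈ chevE8.group F := PJ_le_group F hyP
  have hyK : (⟨y, hyΓ⟩ : ↥(chevE8.group F)) ∈ P.parabolic (gensOf chevE8 F J) := by
    rw [hpar]
    exact hyP
  have hyB : (⟨⟨y, hyΓ⟩, hyK⟩ : ↥(P.parabolic (gensOf chevE8 F J))) ∈
      (Cfsg.Agent.Helper69.UnipSB.subBN P (gensOf chevE8 F J) (gensOf_subset chevE8 P hS J)).B := by
    have : (⟨y, hyΓ⟩ : ↥(chevE8.group F)) ∈ P.B := by
      rw [hB]
      exact hYB hy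
    exact this
  have h1 := (hint _ hyB).mp (by
    have h2 : ((n₀ : ↥(chevE8.group F)) : GL chevE8.Idx F)⁻¹ * y * ((n₀ : ↥(chevE8.group F)) : GL chevE8.Idx F) ∈ Y := by
      have := (Subgroup.mem_normalizer_iff.mp (hYn (Subgroup.inv_mem _ hn₀P)) y).mp hy
      simpa using this
    have h3 : (n₀⁻¹ * (⟨⟨y, hyΓ⟩, hyK⟩ : ↥(P.parabolic (gensOf chevE8 F J))) * n₀ : ↥(P.parabolic (gensOf chevE8 F J))).1 ∈ P.B := by
      rw [hB]
      exact hYB h2
    exact h3)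
  rw [mem_lift2, hH, sup_bot_eq, ← UL_one_eq] at h1
  exact h1

end Cfsg.Agent.Helper19.E8C
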