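import Cfsg.Agent.Helper18.Graded
import Cfsg.Agent.Helper18.Levi
import Cfsg.Agent.Helper19.Poinc.ChevStep

/-!
# `E₈(F)`: the maximal parabolic subgroup at the branch node and the level filtration of its radical

Definitions for S5751. `lev r` is the coefficient of the root `r` on the fundamental root `p₄` (index `3`,
the branch node, coefficient `6` in the highest root), `J` the other seven nodes, `PJ = P_J`,
`UL m` the subgroup generated by the root elements of level `≥ m`, `nB = n_{p₄}`.
-/

set_option autoImplicit false
set_option maxRecDepth 100000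

namespace Cfsg.Agent.Helper19.E8C

open Cfsg Cfsg.Lie Cfsg.Agent.Helper18 Cfsg.Agent.Helper19.Poinc

theorem hE8 : chevE8 ∈ [chevG2, chevB2, chevD4, chevF4, chevE6, chevE7, chevE8] := by simp

/-- the fourth row of the inverse Cartan matrix of `E₈` -/
def wts : List ℤ := [10, 15, 20, 30, 24, 18, 12, 6]

/-- the level of a root: its coefficient on the fundamental root `p₄` -/
def lev (r : ℕ) : ℤ := lvlF chevE8 wts r

/-- the level is the coefficient of the coroot on `h_{p₄}` (the root system is simply laced) -/
theorem lev_eq_coroot : ∀ r < chevE8.nroots, lev r = (chevE8.coroot.getD r #[]).getD 3 0 := by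
  decide +kernel

theorem lev_additive (s : ℕ) (hs : s < chevE8.nroots) : IsAdditiveAt chevE8 lev s := by
  apply isAdditiveAt_lvlF
  intro i hi
  have h := addAllOK_of_mem chevE8 (by simp [allData])
  unfold addAllOK at h
  rw [List.all_eq_true] at h
  exact isAdditiveAt_cartan chevE8 i (h i (List.mem_range.mpr hi)) s hs

/-- the nodes other than the branch node -/
def J : Set ℕ := {j | j ≠ 3}

variable (F : Type*) [Field F]

/-- the maximal parabolic subgroup -/
def PJ : Subgroup (GL chevE8.Idx F) := chevE8.parabolicSubgroup F J

/-- the subgroup generated by the root elements of level `≥ m` -/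
def UL (m : ℕ) : Subgroup (GL chevE8.Idx F) :=
  Subgroup.closure {g | ∃ (r : ℕ) (t : F), r < chevE8.nroots ∧ (m : ℤ) ≤ lev r ∧ g = xGL chevE8 F r t}

/-- the representative of the reflection in the branch node -/
noncomputable def nB : GL chevE8.Idx F := npGL chevE8 F 3

/-- the filtration: `VL 0 = P_J`, `VL k = UL (k + 1)` -/
def VL (k : ℕ) : Subgroup (GL chevE8.Idx F) := if k = 0 then PJ F else UL F (k + 1)

/-- the grading of the coordinates by the level -/
def bL : chevE8.Idx → ℕ := natLvl (grW chevE8 lev)

variable {F}

/-- the `(e_r, h_j)` entry -/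
def cmp (g : GL chevE8.Idx F) (r : ℕ) (j : ℕ) : F :=
  if h : r < chevE8.nroots ∧ j < chevE8.rank then
    (g : Matrix chevE8.Idx chevE8.Idx F) (Sum.inr ⟨r, h.1⟩) (Sum.inl ⟨j, h.2⟩) else 0

end Cfsg.Agent.Helper19.E8C
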