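import Cfsg.Agent.Helper19.E8C.Basic

/-!
# `E₈(F)`, the maximal parabolic subgroup at the branch node: the interface between the pieces of S5751

The facts on the coordinates `cmp`, on the normalisation of the filtration `UL` and on its quotients, as
propositions (each is proved in its own file and fed to the others as a hypothesis).
-/

set_option autoImplicit false

namespace Cfsg.Agent.Helper19.E8C

open Cfsg Cfsg.Lie Cfsg.Agent.Helper18 Cfsg.Agent.Helper19.Poinc

/-- the roots of level `m`, in index order -/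
def lvlList (m : ℕ) : List ℕ := (List.range chevE8.nroots).filter (fun r => lev r = (m : ℤ))

theorem mem_lvlList (m r : ℕ) : r ∈ lvlList m ↔ r < chevE8.nroots ∧ lev r = (m : ℤ) := by
  unfold lvlList
  simp

theorem nodup_lvlList (m : ℕ) : (lvlList m).Nodup :=
  List.Nodup.filter _ List.nodup_range

variable (F : Type*) [Field F]

/-- the matrix facts on the coordinates `cmp g r j` (the `(e_r, h_j)` entry) -/
structure CmpFacts : Prop where
  low : ∀ m : ℕ, 1 ≤ m → UL F m ≤ lowerGL bL F m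
  plow : PJ F ≤ lowerGL bL F 0
  one : ∀ r j : ℕ, cmp (1 : GL chevE8.Idx F) r j = 0
  mul : ∀ m : ℕ, 1 ≤ m → ∀ g ∈ lowerGL bL F m, ∀ g' ∈ lowerGL bL F m, ∀ r j : ℕ, lev r = (m : ℤ) →
    cmp (g * g') r j = cmp g r j + cmp g' r j
  zero : ∀ m : ℕ, ∀ g ∈ lowerGL bL F m, ∀ r j : ℕ, lev r < (m : ℤ) → cmp g r j = 0
  gen : ∀ s < chevE8.nroots, ∀ (t : F) (r j : ℕ), r < chevE8.nroots → j < chevE8.rank →
    cmp (xGL chevE8 F s t) r j = if r = s then -((chevE8.cartan j s : ℤ) : F) * t else 0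

/-- `P_J` normalises the filtration -/
def NormFact : Prop :=
  ∀ m : ℕ, 1 ≤ m → PJ F ≤ Subgroup.normalizer (UL F m : Set (GL chevE8.Idx F))

/-- `n_{p₄}` shifts the filtration by at most one step -/
def ConjFact : Prop :=
  ∀ m : ℕ, 1 ≤ m → ∀ v ∈ UL F (m + 1), nB F * v * (nB F)⁻¹ ∈ UL F m ∧ (nB F)⁻¹ * v * nB F ∈ UL F m

/-- `UL m / UL (m + 1)`: an element of `UL m` is the product of the root elements of level `m` at its
coordinates, up to `UL (m + 1)` (characteristic `2`) -/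
def CollectFact : Prop :=
  ∀ m : ℕ, 1 ≤ m → ∀ g ∈ UL F m, ∃ z ∈ UL F (m + 1),
    g = ((lvlList m).map (fun r => xGL chevE8 F r (cmp g r (jOdd r)))).prod * z

/-- the root subgroup of `-p₄` meets `P_J` trivially -/
def XnegFact : Prop := ∀ t : F, xGL chevE8 F 109 t ∈ PJ F → t = 0

variable {F}

theorem CmpFacts.inv (hc : CmpFacts F) (m : ℕ) (hm : 1 ≤ m) (g : GL chevE8.Idx F) (hg : g ∈ lowerGL bL F m)
    (r j : ℕ) (hr : lev r = (m : ℤ)) : cmp g⁻¹ r j = - cmp g r j := by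
  have h := hc.mul m hm g hg g⁻¹ (Subgroup.inv_mem _ hg) r j hr
  rw [mul_inv_cancel, hc.one] at h
  exact eq_neg_of_add_eq_zero_right h.symm

theorem CmpFacts.mul_UL (hc : CmpFacts F) (m : ℕ) (hm : 1 ≤ m) (g g' : GL chevE8.Idx F) (hg : g ∈ UL F m)
    (hg' : g' ∈ UL F m) (r j : ℕ) (hr : lev r = (m : ℤ)) : cmp (g * g') r j = cmp g r j + cmp g' r j :=
  hc.mul m hm g (hc.low m hm hg) g' (hc.low m hm hg') r j hr

theorem CmpFacts.inv_UL (hc : CmpFacts F) (m : ℕ) (hm : 1 ≤ m) (g : GL chevE8.Idx F) (hg : g ∈ UL F m)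
    (r j : ℕ) (hr : lev r = (m : ℤ)) : cmp g⁻¹ r j = - cmp g r j :=
  hc.inv m hm g (hc.low m hm hg) r j hr

theorem CmpFacts.zero_UL (hc : CmpFacts F) (m : ℕ) (hm : 1 ≤ m) (g : GL chevE8.Idx F) (hg : g ∈ UL F m)
    (r j : ℕ) (hr : lev r < (m : ℤ)) : cmp g r j = 0 :=
  hc.zero m g (hc.low m hm hg) r j hr

/-- the coordinate of a root element at its own root, in characteristic `2` -/
theorem CmpFacts.gen_self (hc : CmpFacts F) (h2 : (2 : F) = 0) (s : ℕ) (hs : s < chevE8.nroots) (t : F) :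
    cmp (xGL chevE8 F s t) s (jOdd s) = t := by
  rw [hc.gen s hs t s (jOdd s) hs (jOdd_spec s hs).1, if_pos rfl, cartan_odd_cast h2 s hs]
  have : (-1 : F) = 1 := by
    rw [neg_eq_iff_add_eq_zero]
    rw [one_add_one_eq_two, h2]
  rw [this, one_mul]

theorem CmpFacts.gen_ne (hc : CmpFacts F) (s : ℕ) (hs : s < chevE8.nroots) (t : F) (r : ℕ)
    (hr : r < chevE8.nroots) (hne : r ≠ s) : cmp (xGL chevE8 F s t) r (jOdd r) = 0 := by
  rw [hc.gen s hs t r (jOdd r) hr (jOdd_spec r hr).1, if_neg hne]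

end Cfsg.Agent.Helper19.E8C
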