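import Cfsg.Agent.Helper19.E8C.Facts

/-!
# S5751, piece (QUOT) (hedge copy): `UL m / UL (m + 1)` is spanned by the root elements of level `m`
-/

set_option autoImplicit false
set_option maxRecDepth 100000

namespace Cfsg.Agent.Helper19.E8C

open Cfsg Cfsg.Lie Cfsg.Agent.Helper18 Cfsg.Agent.Helper19.Poinc

variable {F : Type*} [Field F]

/-- the product of the root elements of a list of roots with the coefficients `c` -/
noncomputable def quotProd (L : List ℕ) (c : ℕ → F) : GL chevE8.Idx F :=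
  (L.map (fun r => xGL chevE8 F r (c r))).prod

theorem quotProd_nil (c : ℕ → F) : quotProd [] c = 1 := rfl

theorem quotProd_cons (r : ℕ) (L : List ℕ) (c : ℕ → F) :
    quotProd (r :: L) c = xGL chevE8 F r (c r) * quotProd L c := by
  unfold quotProd
  rw [List.map_cons, List.prod_cons]

theorem quotProd_congr (L : List ℕ) (c c' : ℕ → F) (h : ∀ r ∈ L, c r = c' r) : quotProd L c = quotProd L c' := by
  unfold quotProd
  congr 1
  apply List.map_congr_left
  intro r hr
  rw [h r hr]

theorem quotProd_mem (m : ℕ) (L : List ℕ) (hL : ∀ r ∈ L, r < chevE8.nroots ∧ lev r = (m : ℤ)) (c : ℕ → F) :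
    quotProd L c ∈ UL F m := by
  unfold quotProd
  apply Subgroup.list_prod_mem
  intro g hg
  obtain ⟨r, hr, rfl⟩ := List.mem_map.mp hg
  exact xGL_mem_UL F r (hL r hr).1 m (le_of_eq (hL r hr).2.symm) _

/-- (a) `UL m` normalises `UL (m + 1)` -/
theorem quot_conj_mem (hN : NormFact F) (m : ℕ) (u z : GL chevE8.Idx F) (hu : u ∈ UL F m)
    (hz : z ∈ UL F (m + 1)) : u⁻¹ * z * u ∈ UL F (m + 1) := by
  have h1 := hN (m + 1) (by omega) (UL_le_PJ F m (inv_mem hu))
  have := (Subgroup.mem_normalizer_iff.mp h1 z).mp hz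
  simpa using this

/-- (b) root elements of level `≥ m` commute modulo `UL (m + 1)` -/
theorem quot_comm (h25 : CommHyp chevE8 F) (m : ℕ) (hm : 1 ≤ m) (r s : ℕ) (hr : r < chevE8.nroots)
    (hs : s < chevE8.nroots) (hlr : (m : ℤ) ≤ lev r) (hls : (m : ℤ) ≤ lev s) (t u : F) :
    ∃ w ∈ UL F (m + 1), xGL chevE8 F s u * xGL chevE8 F r t = xGL chevE8 F r t * xGL chevE8 F s u * w := by
  by_cases h1 : s = r
  · subst h1
    refine ⟨1, Subgroup.one_mem _, ?_⟩
    rw [mul_one, Cfsg.Agent.Helper18.xGL_mul_add chevE8 hE8, Cfsg.Agent.Helper18.xGL_mul_add chevE8 hE8, add_comm]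
  · have h2 : s ≠ chevE8.neg r := by
      intro e
      have := (lev_additive r hr).1
      rw [← e] at this
      have hm' : (1 : ℤ) ≤ (m : ℤ) := by exact_mod_cast hm
      omega
    have hc := comm_xGL chevE8 hE8 h25 r s hr hs h1 h2 t u
    refine ⟨wordGL chevE8 F (chevE8.commWord F r s t u), ?_, ?_⟩
    · unfold wordGL ChevalleyDatum.commWord
      apply Subgroup.list_prod_mem
      intro g hg
      simp only [List.map_map, List.mem_map, Function.comp_apply] at hg
      obtain ⟨c, hc', rfl⟩ := hg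
      obtain ⟨c1, c2, c3, c4⟩ := commTerms_lvl chevE8 hE8 lev lev_additive r s hr hs c hc'
      apply xGL_mem_UL F _ c1 (m + 1)
      rw [c2]
      have e3 : (1 : ℤ) ≤ (c.2.2.1 : ℤ) := by exact_mod_cast c3
      have e4 : (1 : ℤ) ≤ (c.2.2.2 : ℤ) := by exact_mod_cast c4
      have hm' : (1 : ℤ) ≤ (m : ℤ) := by exact_mod_cast hm
      have h5 : 1 * lev r ≤ (c.2.2.1 : ℤ) * lev r := mul_le_mul_of_nonneg_right e3 (by omega)
      have h6 : 1 * lev s ≤ (c.2.2.2 : ℤ) * lev s := mul_le_mul_of_nonneg_right e4 (by omega)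
      push_cast
      omega
    · rw [mul_assoc, ← hc]
      group

/-- (L5) a root element of level `m` is absorbed by the ordered product, up to `UL (m + 1)` -/
theorem quot_insert (h25 : CommHyp chevE8 F) (hN : NormFact F) (m : ℕ) (hm : 1 ≤ m) (s : ℕ)
    (hs : s < chevE8.nroots) (hls : lev s = (m : ℤ)) (t : F) (L : List ℕ)
    (hL : ∀ r ∈ L, r < chevE8.nroots ∧ lev r = (m : ℤ)) (hnd : L.Nodup) (hsL : s ∈ L) (c : ℕ → F) :
    ∃ w ∈ UL F (m + 1), xGL chevE8 F s t * quotProd L c =
      quotProd L (fun r => if r = s then t + c s else c r) * w := by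
  induction L with
  | nil => exact absurd hsL (by simp)
  | cons r L ih =>
    rw [List.nodup_cons] at hnd
    by_cases hrs : r = s
    · subst hrs
      refine ⟨1, Subgroup.one_mem _, ?_⟩
      rw [mul_one, quotProd_cons, quotProd_cons, ← mul_assoc, Cfsg.Agent.Helper18.xGL_mul_add chevE8 hE8, if_pos rfl]
      congr 1
      apply quotProd_congr
      intro r' hr'
      have : r' ≠ r := fun e => hnd.1 (e ▸ hr')
      rw [if_neg this]
    · have hsL' : s ∈ L := by
        rcases List.mem_cons.mp hsL with e | e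
        · exact absurd e.symm hrs
        · exact e
      have hL' : ∀ r' ∈ L, r' < chevE8.nroots ∧ lev r' = (m : ℤ) := fun r' hr' => hL r' (List.mem_cons_of_mem _ hr')
      obtain ⟨w, hw, e⟩ := ih hL' hnd.2 hsL'
      obtain ⟨hr1, hr2⟩ := hL r List.mem_cons_self
      obtain ⟨w₀, hw₀, e₀⟩ := quot_comm h25 m hm r s hr1 hs (le_of_eq hr2.symm) (le_of_eq hls.symm) (c r) t
      have hP := quotProd_mem m L hL' c
      refine ⟨w * ((quotProd L c)⁻¹ * w₀ * quotProd L c), mul_mem hw (quot_conj_mem hN m _ _ hP hw₀), ?_⟩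
      rw [quotProd_cons, quotProd_cons, if_neg hrs, ← mul_assoc, e₀]
      have e' : xGL chevE8 F r (c r) * xGL chevE8 F s t * w₀ * quotProd L c =
          xGL chevE8 F r (c r) * (xGL chevE8 F s t * quotProd L c) * ((quotProd L c)⁻¹ * w₀ * quotProd L c) := by
        group
      rw [e', e]
      group

/-- every element of `UL m` is an ordered product times an element of `UL (m + 1)` -/
theorem quot_exists (h25 : CommHyp chevE8 F) (hN : NormFact F) (m : ℕ) (hm : 1 ≤ m) (g : GL chevE8.Idx F)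
    (hg : g ∈ UL F m) : ∃ (c : ℕ → F), ∃ z ∈ UL F (m + 1), g = quotProd (lvlList m) c * z := by
  have hL : ∀ r ∈ lvlList m, r < chevE8.nroots ∧ lev r = (m : ℤ) := fun r hr => (mem_lvlList m r).mp hr
  have step : ∀ (s : ℕ) (t : F), s < chevE8.nroots → (m : ℤ) ≤ lev s → ∀ y : GL chevE8.Idx F,
      (∃ (c : ℕ → F), ∃ z ∈ UL F (m + 1), y = quotProd (lvlList m) c * z) →
      ∃ (c : ℕ → F), ∃ z ∈ UL F (m + 1), xGL chevE8 F s t * y = quotProd (lvlList m) c * z := by
    rintro s t hs hls y ⟨c, z, hz, rfl⟩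
    by_cases h : lev s = (m : ℤ)
    · obtain ⟨w, hw, e⟩ := quot_insert h25 hN m hm s hs h t (lvlList m) hL (nodup_lvlList m)
        ((mem_lvlList m s).mpr ⟨hs, h⟩) c
      refine ⟨fun r => if r = s then t + c s else c r, w * z, mul_mem hw hz, ?_⟩
      rw [← mul_assoc, e, mul_assoc]
    · have hs' : xGL chevE8 F s t ∈ UL F (m + 1) := xGL_mem_UL F s hs (m + 1) (by push_cast; omega) t
      refine ⟨c, (quotProd (lvlList m) c)⁻¹ * xGL chevE8 F s t * quotProd (lvlList m) c * z,
        mul_mem (quot_conj_mem hN m _ _ (quotProd_mem m _ hL c) hs') hz, ?_⟩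
      group
  unfold UL at hg
  induction hg using Subgroup.closure_induction_left with
  | one => exact ⟨fun _ => 0, 1, Subgroup.one_mem _, by
      rw [mul_one]
      symm
      unfold quotProd
      apply List.prod_eq_one
      intro g hg
      obtain ⟨r, -, rfl⟩ := List.mem_map.mp hg
      exact Cfsg.Agent.Helper19.Poinc.xGL_zero' chevE8 hE8 r⟩
  | mul_left x hx y _ ih =>
    obtain ⟨s, t, hs, hls, rfl⟩ := hx
    exact step s t hs hls y ih
  | inv_mul_cancel x hx y _ ih =>
    obtain ⟨s, t, hs, hls, rfl⟩ := hx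
    rw [Cfsg.Agent.Helper19.Poinc.xGL_inv' chevE8 hE8 s hs]
    exact step s (-t) hs hls y ih

/-- (L6) the coordinates of an ordered product -/
theorem quot_cmp_prod (h2 : (2 : F) = 0) (hc : CmpFacts F) (m : ℕ) (hm : 1 ≤ m) (r : ℕ)
    (hr : r < chevE8.nroots) (hlr : lev r = (m : ℤ)) (L : List ℕ)
    (hL : ∀ r ∈ L, r < chevE8.nroots ∧ lev r = (m : ℤ)) (hnd : L.Nodup) (c : ℕ → F) :
    cmp (quotProd L c) r (jOdd r) = if r ∈ L then c r else 0 := by
  induction L with
  | nil =>
    rw [quotProd_nil, hc.one]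
    simp
  | cons r' L ih =>
    rw [List.nodup_cons] at hnd
    have hL' : ∀ r' ∈ L, r' < chevE8.nroots ∧ lev r' = (m : ℤ) := fun r' hr' => hL r' (List.mem_cons_of_mem _ hr')
    obtain ⟨hr1, hr2⟩ := hL r' List.mem_cons_self
    rw [quotProd_cons, hc.mul_UL m hm _ _ (xGL_mem_UL F r' hr1 m (le_of_eq hr2.symm) _)
      (quotProd_mem m L hL' c) r _ hlr, ih hL' hnd.2]
    by_cases h : r = r'
    · subst h
      rw [hc.gen_self h2 r hr, if_neg hnd.1, add_zero, if_pos List.mem_cons_self]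
    · rw [hc.gen_ne r' hr1 _ r hr h, zero_add]
      by_cases h' : r ∈ L
      · rw [if_pos h', if_pos (List.mem_cons_of_mem _ h')]
      · rw [if_neg h', if_neg (by simp [h, h'])]

/-! ### (QUOT) -/
theorem collectFact (h25 : CommHyp chevE8 F) (h2 : (2 : F) = 0) (hc : CmpFacts F) (hN : NormFact F) :
    CollectFact F := by
  intro m hm g hg
  have hL : ∀ r ∈ lvlList m, r < chevE8.nroots ∧ lev r = (m : ℤ) := fun r hr => (mem_lvlList m r).mp hr
  obtain ⟨c, z, hz, e⟩ := quot_exists h25 hN m hm g hg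
  refine ⟨z, hz, ?_⟩
  have hcr : ∀ r ∈ lvlList m, c r = cmp g r (jOdd r) := by
    intro r hr
    obtain ⟨hr1, hr2⟩ := hL r hr
    rw [e, hc.mul_UL m hm _ _ (quotProd_mem m _ hL c) (UL_mono F (by omega) hz) r _ hr2,
      quot_cmp_prod h2 hc m hm r hr1 hr2 _ hL (nodup_lvlList m) c, if_pos hr,
      hc.zero_UL (m + 1) (by omega) z hz r _ (by rw [hr2]; push_cast; omega), add_zero]
  have := quotProd_congr (lvlList m) c (fun r => cmp g r (jOdd r)) hcr
  unfold quotProd at this
  rw [← this]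
  exact e

end Cfsg.Agent.Helper19.E8C
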