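import Cfsg.Agent.Helper19.E8C.Facts
import Cfsg.Agent.Helper19.E8C.Abs
import Cfsg.Agent.Helper6.BN6
import Cfsg.Agent.Helper19.Unip.ChevK
import Cfsg.Agent.Helper36.ChevSimpleFinal
import Cfsg.Agent.S1025
import Cfsg.Agent.S1054
import Cfsg.Agent.Helper66.E8C_LOW
import Cfsg.Agent.Helper55.E8C_ADD
import Cfsg.Agent.Helper12.E8C_NORM
import Cfsg.Agent.Helper65.E8C_CONJ
import Cfsg.Agent.Helper19.E8C.QuotH
import Cfsg.Agent.Helper22.E8C_EQ
import Cfsg.Agent.Helper47.E8C_XNEG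
import Cfsg.Agent.Helper19.E8C.Bot1
import Cfsg.Agent.Helper19.E8C.CoreH
import Cfsg.Agent.Helper72.E8C_BN1
import Cfsg.Agent.Helper29.E8C_MAX

/-!
# S5751: the iterated cores of the maximal parabolic subgroup of `E₈(2)` at the branch node (assembly)
-/

set_option autoImplicit false
set_option maxRecDepth 100000

namespace Cfsg.Agent.Helper19.E8C

open Cfsg Cfsg.Lie Cfsg.Agent.Helper18 Cfsg.Agent.Helper19.Poinc Cfsg.Agent.Helper19.Stein
  Cfsg.Agent.Helper19.Unip

open Cfsg.Agent.Helper12.E8C Cfsg.Agent.Helper22.E8C Cfsg.Agent.Helper29.E8C Cfsg.Agent.Helper47.E8C Cfsg.Agent.Helper55.E8C Cfsg.Agent.Helper65.E8C Cfsg.Agent.Helper66.E8C Cfsg.Agent.Helper72.E8C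

section Assembly

variable {F : Type*} [Field F]

theorem cmpFacts : CmpFacts F where
  low := UL_le_lower
  plow := PJ_le_lower
  one := cmp_one
  mul := cmp_mul
  zero := cmp_zero_of_lower
  gen := cmp_xGL

/-- (STEP) descent along the reflections in `J`, then collection -/
theorem step (h31 : NConjHyp chevE8 F) (h2 : (2 : F) = 0) (hc : CmpFacts F) (hQ : CollectFact F)
    (m : ℕ) (hm : 1 ≤ m) (Y : Subgroup (GL chevE8.Idx F)) (hYm : Y ≤ UL F m)
    (hYn : PJ F ≤ Subgroup.normalizer (Y : Set (GL chevE8.Idx F)))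
    (hbot : ∀ y ∈ Y, cmp y (bot m) (jOdd (bot m)) = 0) : Y ≤ UL F (m + 1) := by
  have key : ∀ r : ℕ, r < chevE8.nroots → lev r = (m : ℤ) → ∀ y ∈ Y, cmp y r (jOdd r) = 0 := by
    intro r
    induction r using Nat.strong_induction_on with
    | _ r ih =>
      intro hr hlev y hy
      rcases desc_spec r hr (by rw [hlev]; exact_mod_cast hm) with h | ⟨hd1, hd2, hd3⟩
      · rw [hlev, Int.toNat_natCast] at h
        rw [h]
        exact hbot y hy
      · have hlt := reflect_lt (desc r) hd1 r hr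
        have hl' : lev (chevE8.reflectRoot (desc r) r) = (m : ℤ) := by
          rw [lev_reflect_J (desc r) hd1 hd2 r hr, hlev]
        have hy' : npGL chevE8 F (desc r) * y * (npGL chevE8 F (desc r))⁻¹ ∈ Y :=
          (Subgroup.mem_normalizer_iff.mp (hYn (npGL_mem_PJ F (desc r) hd1 hd2)) y).mp hy
        have h1 := (cmp_conj h31 h2 hc (desc r) hd1 m m hm hm
          (fun s hs hms => by rw [lev_reflect_J (desc r) hd1 hd2 s hs]; exact hms)
          y (hYm hy) r hr hlev hl').1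
        rw [← h1]
        exact ih _ hd3 hlt hl' _ hy'
  intro y hy
  obtain ⟨z, hz, e⟩ := hQ m hm y (hYm hy)
  have h1 : ((lvlList m).map (fun r => xGL chevE8 F r (cmp y r (jOdd r)))).prod = 1 := by
    apply List.prod_eq_one
    intro g hg
    obtain ⟨r, hr, rfl⟩ := List.mem_map.mp hg
    rw [mem_lvlList] at hr
    rw [key r hr.1 hr.2 y hy]
    exact Cfsg.Agent.Helper19.Poinc.xGL_zero' chevE8 hE8 r
  rw [h1, one_mul] at e
  rw [e]
  exact hz

/-- the induction step at the levels `m ≥ 2` -/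
theorem hup_ge_two (h31 : NConjHyp chevE8 F) (h2 : (2 : F) = 0) (hc : CmpFacts F) (hQ : CollectFact F)
    (m : ℕ) (hm : 2 ≤ m) (Y : Subgroup (GL chevE8.Idx F))
    (hYn : PJ F ≤ Subgroup.normalizer (Y : Set (GL chevE8.Idx F)))
    (hY : ∀ y ∈ Y, y ∈ UL F m ∧ (nB F)⁻¹ * y * nB F ∈ UL F m) : Y ≤ UL F (m + 1) := by
  by_cases h7 : 7 ≤ m
  · intro y hy
    have := (hY y hy).1
    rw [UL_eq_bot F m h7, Subgroup.mem_bot] at this
    rw [this]
    exact Subgroup.one_mem _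
  · obtain ⟨hb1, hb2, hb3⟩ := bot_spec m hm (by omega)
    apply step h31 h2 hc hQ m (by omega) Y (fun y hy => (hY y hy).1) hYn
    intro y hy
    have h1 := (cmp_conj h31 h2 hc 3 (by decide) m (m - 1) (by omega) (by omega)
      (fun s hs hms => by
        have h130 : s ≠ 130 := by
          rintro rfl
          rw [lev_simple_three] at hms
          omega
        have h109 : s ≠ 109 := by
          rintro rfl
          have : lev 109 = -1 := by decide +kernel
          rw [this] at hms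
          omega
        have := (lev_reflect_B s hs h130 h109).1
        omega)
      y (hY y hy).1 (bot m) hb1 hb2 (by rw [hb3]; omega)).2
    rw [← h1]
    apply hc.zero_UL m (by omega) _ (hY y hy).2
    rw [hb3]
    omega

end Assembly

section Transfer

variable {G : Type*} [Group G]

/-- a subgroup of `Γ`, pushed to `G`, is normalised by what normalises it in `Γ` -/
theorem le_normalizer_map_subtype (Γ X : Subgroup G) (hX : X ≤ Γ) (Y : Subgroup ↥Γ)
    (h : X.subgroupOf Γ ≤ Subgroup.normalizer (Y : Set ↥Γ)) :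
    X ≤ Subgroup.normalizer ((Y.map Γ.subtype : Subgroup G) : Set G) := by
  intro x hx
  have hxn := h (show (⟨x, hX hx⟩ : ↥Γ) ∈ X.subgroupOf Γ from hx)
  rw [Subgroup.mem_normalizer_iff] at hxn ⊢
  intro g
  constructor
  · rintro ⟨y, hy, rfl⟩
    exact ⟨_, (hxn y).mp hy, rfl⟩
  · rintro ⟨y, hy, e⟩
    have hgΓ : g ∈ Γ := by
      have : g = x⁻¹ * (x * g * x⁻¹) * x := by group
      rw [this, ← e]
      exact Γ.mul_mem (Γ.mul_mem (Γ.inv_mem (hX hx)) y.2) (hX hx)
    refine ⟨⟨g, hgΓ⟩, ?_, rfl⟩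
    apply (hxn ⟨g, hgΓ⟩).mpr
    have e' : (⟨x, hX hx⟩ : ↥Γ) * ⟨g, hgΓ⟩ * (⟨x, hX hx⟩ : ↥Γ)⁻¹ = y := Subtype.ext e.symm
    rw [e']
    exact hy

theorem subgroupOf_le_normalizer_subgroupOf (Γ X Y : Subgroup G)
    (h : X ≤ Subgroup.normalizer (Y : Set G)) :
    X.subgroupOf Γ ≤ Subgroup.normalizer ((Y.subgroupOf Γ : Subgroup ↥Γ) : Set ↥Γ) := by
  intro x hx
  have hxn := h (show (x : G) ∈ X from hx)
  rw [Subgroup.mem_normalizer_iff] at hxn ⊢
  intro g
  rw [Subgroup.mem_subgroupOf, Subgroup.mem_subgroupOf]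
  simpa using hxn (g : G)

end Transfer

/-! ### (HBOT) -/
theorem diagonal_eq_bot' : chevE8.diagonalSubgroup (ZMod 2) = ⊥ := by
  unfold ChevalleyDatum.diagonalSubgroup
  rw [Subgroup.closure_eq_bot_iff]
  rintro g ⟨r, t, hr, ht, hg⟩
  have ht1 : t = 1 := by
    fin_cases t
    · exact absurd rfl ht
    · rfl
  subst ht1
  have h1 := hWordGL_one (F := ZMod 2) chevE8 hE8 r hr
  apply Units.ext
  rw [hg, ← hWordGL_val chevE8 hE8, h1]

section Chev

variable {F : Type*} [Field F]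

theorem h25E8 : CommHyp chevE8 F :=
  fun r s hr hs h1 h2 t u => Cfsg.Agent.S1025.result chevE8 hE8 r s hr hs h1 h2 t u

theorem h31E8 : NConjHyp chevE8 F := fun i s hi hs => Cfsg.Agent.S1031.result chevE8 hE8 i s hi hs

/-- `n_{p₄}` as an element of the Chevalley group -/
noncomputable def sB (F : Type*) [Field F] : ↥(chevE8.group F) := ⟨nB F, nB_mem_group F⟩

variable (P : Cfsg.BNPair ↥(chevE8.group F))
  (hB : P.B = (chevE8.borelSubgroup F).subgroupOf (chevE8.group F))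
  (hN : P.N = (chevE8.monomialSubgroup F).subgroupOf (chevE8.group F))
  (hS : P.S = {n : ↥(chevE8.group F) | ∃ i < chevE8.rank,
    ((n : GL chevE8.Idx F) : Matrix chevE8.Idx chevE8.Idx F) = chevE8.nMat F (chevE8.simple i) 1})

include hS in
theorem sB_mem : sB F ∈ P.S := by
  rw [hS]
  exact ⟨3, by decide, nWordGL_val chevE8 hE8 _ _⟩

include hS in
theorem S_diff_eq : P.S \ {sB F} = gensOf chevE8 F J := by
  ext g
  constructor
  · rintro ⟨hg, hne⟩
    rw [hS] at hg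
    obtain ⟨i, hi, hgi⟩ := hg
    refine ⟨i, ?_, hi, hgi⟩
    intro h3
    apply hne
    have h3' : i = 3 := h3
    subst h3'
    apply Subtype.ext
    apply Units.ext
    rw [hgi]
    exact (nWordGL_val chevE8 hE8 _ _).symm
  · rintro ⟨j, hj, hj8, hg⟩
    refine ⟨hS ▸ ⟨j, hj8, hg⟩, ?_⟩
    intro hgs
    apply hj
    have hgs' : g = sB F := hgs
    have e1 : (genS chevE8 hE8 P hS ⟨j, hj8⟩ : ↥(chevE8.group F)) = g := by
      apply Subtype.ext
      apply Units.ext
      rw [hg]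
      exact nWordGL_val chevE8 hE8 _ _
    have e2 : (genS chevE8 hE8 P hS ⟨3, by decide⟩ : ↥(chevE8.group F)) = sB F := rfl
    have := (genS_bijective chevE8 hE8 P hS).1 (Subtype.ext (e1.trans (hgs'.trans e2.symm)))
    exact congrArg Fin.val this

include hB hS in
theorem parabolic_eq : P.parabolic (P.S \ {sB F}) = (PJ F).subgroupOf (chevE8.group F) := by
  rw [S_diff_eq P hS]
  exact parabolic_gensOf chevE8 hE8 P hB J

end Chev

section Step0

variable {F : Type*} [Field F]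

theorem nB_sq_mem : nB F * nB F ∈ PJ F :=
  diag_le_PJ F (nGL_sq_mem chevE8 hE8 _ (simple_lt chevE8 (simpleOK_of_mem chevE8 hE8) 3 (by decide)))

/-- conjugation by `n` and by `n⁻¹` differ by an element of `H ≤ P_J` -/
theorem conj_nB_iff (X : Subgroup (GL chevE8.Idx F))
    (hX : PJ F ≤ Subgroup.normalizer (X : Set (GL chevE8.Idx F))) (y : GL chevE8.Idx F) :
    nB F * y * (nB F)⁻¹ ∈ X ↔ (nB F)⁻¹ * y * nB F ∈ X := by
  have h := Subgroup.mem_normalizer_iff.mp (hX (nB_sq_mem (F := F))) ((nB F)⁻¹ * y * nB F)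
  rw [h]
  have e : nB F * nB F * ((nB F)⁻¹ * y * nB F) * (nB F * nB F)⁻¹ = nB F * y * (nB F)⁻¹ := by group
  rw [e]

theorem irreducibleE8 (P : Cfsg.BNPair ↥(chevE8.group F))
    (hB : P.B = (chevE8.borelSubgroup F).subgroupOf (chevE8.group F))
    (hS : P.S = {n : ↥(chevE8.group F) | ∃ i < chevE8.rank,
      ((n : GL chevE8.Idx F) : Matrix chevE8.Idx chevE8.Idx F) = chevE8.nMat F (chevE8.simple i) 1}) :
    P.Irreducible := by
  obtain ⟨E, hE⟩ := Cfsg.Agent.Helper36.ChevSimple.exists_edges chevE8 hE8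
  exact Cfsg.Agent.Helper36.ChevSimple.irreducible_of_connOK chevE8
    (Cfsg.Agent.Helper40.ChevAdd.addOK_of_mem hE8)
    (fun i s hi hs => Cfsg.Agent.S1031.result chevE8 hE8 i s hi hs)
    (Cfsg.Agent.S1037.result chevE8 hE8).1
    (fun r hr t h => (Cfsg.Agent.S1024.result chevE8 hE8 r hr t).mp h) E hE P hB hS

/-- (STEP0) a normal subgroup of `P_J` inside `P_J ∩ n P_J n⁻¹` lies in the unipotent radical -/
theorem step_zero [Finite F] (hH : chevE8.diagonalSubgroup F = ⊥) (Y : Subgroup (GL chevE8.Idx F))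
    (hYn : PJ F ≤ Subgroup.normalizer (Y : Set (GL chevE8.Idx F)))
    (hY : ∀ y ∈ Y, y ∈ PJ F ∧ (nB F)⁻¹ * y * nB F ∈ PJ F) : Y ≤ UL F 1 := by
  obtain ⟨P, hB, hN, hS⟩ := exists_bnPair (F := F) chevE8 hE8 h25E8
  have hYP : Y ≤ PJ F := fun y hy => (hY y hy).1
  have hpar := parabolic_eq P hB hS
  have hYB : Y.subgroupOf (chevE8.group F) ≤ P.B := by
    apply le_B_of_normal P (irreducibleE8 P hB hS) (sB F) (sB_mem P hS)
    · rw [hpar]
      exact subgroupOf_le_normalizer_subgroupOf _ _ _ hYn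
    · rw [hpar]
      intro y hy
      exact hYP hy
    · intro y hy
      rw [hpar, Subgroup.mem_subgroupOf]
      have h1 : (nB F)⁻¹ * (y : GL chevE8.Idx F) * nB F ∈ PJ F := (hY _ hy).2
      have h2 := (conj_nB_iff (PJ F) Subgroup.le_normalizer (y : GL chevE8.Idx F)).mpr h1
      simpa [sB] using h2
  apply core_le_radical hH Y _ hYn
  intro y hy
  have h1 : (⟨y, PJ_le_group F (hYP hy)⟩ : ↥(chevE8.group F)) ∈ P.B := hYB hy
  rw [hB] at h1
  exact h1

end Step0

section Hup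

variable {F : Type*} [Field F]

theorem VL_zero : VL F 0 = PJ F := if_pos rfl

theorem VL_succ (k : ℕ) : VL F (k + 1) = UL F (k + 2) := if_neg (Nat.succ_ne_zero k)

theorem VL_mono (k : ℕ) : VL F (k + 1) ≤ VL F k := by
  rcases k with _ | k
  · rw [VL_zero, VL_succ]
    exact UL_le_PJ F _
  · rw [VL_succ, VL_succ]
    exact UL_mono F (by omega)

theorem VL_norm (hN : NormFact F) (k : ℕ) :
    PJ F ≤ Subgroup.normalizer (VL F k : Set (GL chevE8.Idx F)) := by
  rcases k with _ | k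
  · rw [VL_zero]
    exact Subgroup.le_normalizer
  · rw [VL_succ]
    exact hN _ (by omega)

theorem VL_conj (hC : ConjFact F) (k : ℕ) (v : GL chevE8.Idx F) (hv : v ∈ VL F (k + 1)) :
    nB F * v * (nB F)⁻¹ ∈ VL F k ∧ (nB F)⁻¹ * v * nB F ∈ VL F k := by
  rcases k with _ | k
  · rw [VL_zero]
    rw [VL_succ] at hv
    obtain ⟨h1, h2⟩ := hC 1 le_rfl v hv
    exact ⟨UL_le_PJ F _ h1, UL_le_PJ F _ h2⟩
  · rw [VL_succ] at hv ⊢
    exact hC (k + 2) (by omega) v hv

/-- the induction step of `iterated_cores`, in `GL` -/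
theorem hup_GL [Finite F] (h2 : (2 : F) = 0) (hH : chevE8.diagonalSubgroup F = ⊥) (k : ℕ)
    (Y : Subgroup (GL chevE8.Idx F)) (hYn : PJ F ≤ Subgroup.normalizer (Y : Set (GL chevE8.Idx F)))
    (hY : ∀ y ∈ Y, y ∈ VL F k ∧ (nB F)⁻¹ * y * nB F ∈ VL F k) : Y ≤ VL F (k + 1) := by
  have hc : CmpFacts F := cmpFacts
  have hN : NormFact F := normFact h25E8
  have hC : ConjFact F := conjFact h31E8
  have hQ : CollectFact F := collectFact h25E8 h2 hc hN
  have hx : XnegFact F := xnegFact h2 hc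
  rcases k with _ | k
  · rw [VL_succ]
    simp only [VL_zero] at hY
    have h1 : Y ≤ UL F 1 := step_zero hH Y hYn hY
    apply step h31E8 h2 hc hQ 1 le_rfl Y h1 hYn
    intro y hy
    rw [bot_one]
    exact cmp_bot_one h31E8 h2 hc hC hQ hx y (h1 hy) (hY y hy).2
  · rw [VL_succ]
    simp only [VL_succ] at hY
    exact hup_ge_two h31E8 h2 hc hQ (k + 2) (by omega) Y hYn hY

end Hup

section Final

/-- the two sequences of iterated cores -/
noncomputable def coreSeq {G : Type*} [Group G] (M₁ M₂ : Subgroup G) : ℕ → Subgroup G × Subgroup G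
  | 0 => (M₁, M₂)
  | i + 1 => ((((coreSeq M₁ M₂ i).1 ⊓ (coreSeq M₁ M₂ i).2).subgroupOf M₁).normalCore.map M₁.subtype,
      (((coreSeq M₁ M₂ i).1 ⊓ (coreSeq M₁ M₂ i).2).subgroupOf M₂).normalCore.map M₂.subtype)

local notation "F₂" => ZMod 2

local notation "Γ" => chevE8.group (ZMod 2)

/-- the filtration in the Chevalley group -/
def VG (k : ℕ) : Subgroup ↥Γ := (VL F₂ k).subgroupOf Γ

theorem two_eq_zero : (2 : F₂) = 0 := by decide

theorem VG_spec (A B : ℕ → Subgroup ↥Γ) (hA0 : A 0 = (PJ F₂).subgroupOf Γ)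
    (hB0 : B 0 = ((PJ F₂).subgroupOf Γ).map (MulAut.conj (sB F₂)).toMonoidHom)
    (hA : ∀ i, A (i + 1) = ((A i ⊓ B i).subgroupOf ((PJ F₂).subgroupOf Γ)).normalCore.map
      ((PJ F₂).subgroupOf Γ).subtype)
    (hB : ∀ i, B (i + 1) = ((A i ⊓ B i).subgroupOf
      (((PJ F₂).subgroupOf Γ).map (MulAut.conj (sB F₂)).toMonoidHom)).normalCore.map
      (((PJ F₂).subgroupOf Γ).map (MulAut.conj (sB F₂)).toMonoidHom).subtype) (k : ℕ) :
    A k = VG k := by
  have hN : NormFact F₂ := normFact h25E8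
  have hC : ConjFact F₂ := conjFact h31E8
  have key : ∀ (k : ℕ) (Y : Subgroup ↥Γ),
      (PJ F₂).subgroupOf Γ ≤ Subgroup.normalizer (Y : Set ↥Γ) →
      (∀ y ∈ Y, y ∈ VG k ∧ (sB F₂)⁻¹ * y * sB F₂ ∈ VG k) → Y ≤ VG (k + 1) := by
    intro k Y hYn hY
    have h1 := hup_GL two_eq_zero diagonal_eq_bot' k (Y.map (Γ).subtype)
      (le_normalizer_map_subtype _ _ (PJ_le_group F₂) Y hYn) (by
        rintro _ ⟨y, hy, rfl⟩
        exact hY y hy)
    intro y hy
    exact h1 ⟨y, hy, rfl⟩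
  refine (iterated_cores ((PJ F₂).subgroupOf Γ) (sB F₂) VG ?_ ?_ ?_ ?_ key ?_ A B hA0 hB0 hA hB k).1
  · unfold VG
    rw [VL_zero]
  · intro k
    exact fun x hx => VL_mono k hx
  · intro k
    exact subgroupOf_le_normalizer_subgroupOf _ _ _ (VL_norm hN k)
  · intro k v hv
    exact VL_conj hC k (v : GL chevE8.Idx F₂) hv
  · intro k Y hYn hY
    apply key k Y hYn
    intro y hy
    refine ⟨(hY y hy).1, ?_⟩
    exact (conj_nB_iff (VL F₂ k) (VL_norm hN k) (y : GL chevE8.Idx F₂)).mp (hY y hy).2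

theorem final :
    ∃ (G : Type) (_ : Group G) (_ : Finite G) (M₁ M₂ : Subgroup G) (g : G) (A B : ℕ → Subgroup G),
      IsCoatom M₁ ∧ M₂ = M₁.map (MulAut.conj g).toMonoidHom ∧ M₁ ≠ M₂ ∧ M₁.normalCore = ⊥ ∧ A 0 = M₁ ∧ B 0 = M₂ ∧
      (∀ i, A (i + 1) = ((A i ⊓ B i).subgroupOf M₁).normalCore.map M₁.subtype) ∧
      (∀ i, B (i + 1) = ((A i ⊓ B i).subgroupOf M₂).normalCore.map M₂.subtype) ∧ A 6 = ⊥ ∧ A 5 ≠ ⊥ := by
  obtain ⟨P, hB, hN, hS⟩ := exists_bnPair (F := F₂) chevE8 hE8 h25E8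
  have hpar := parabolic_eq P hB hS
  obtain ⟨hco, hne, hcore⟩ := max_parabolic P (sB F₂) (sB_mem P hS)
  rw [hpar] at hco hne hcore
  have hsimple : IsSimpleGroup ↥Γ :=
    (Cfsg.Agent.S1054.result (F := F₂) chevE8 (by simp)).1
  have hfin : Finite ↥Γ := inferInstance
  have key := VG_spec (fun i => (coreSeq ((PJ F₂).subgroupOf Γ)
      (((PJ F₂).subgroupOf Γ).map (MulAut.conj (sB F₂)).toMonoidHom) i).1)
    (fun i => (coreSeq ((PJ F₂).subgroupOf Γ)
      (((PJ F₂).subgroupOf Γ).map (MulAut.conj (sB F₂)).toMonoidHom) i).2) rfl rfl (fun _ => rfl) (fun _ => rfl)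
  refine ⟨↥Γ, inferInstance, hfin, (PJ F₂).subgroupOf Γ,
    ((PJ F₂).subgroupOf Γ).map (MulAut.conj (sB F₂)).toMonoidHom, sB F₂,
    fun i => (coreSeq ((PJ F₂).subgroupOf Γ)
      (((PJ F₂).subgroupOf Γ).map (MulAut.conj (sB F₂)).toMonoidHom) i).1,
    fun i => (coreSeq ((PJ F₂).subgroupOf Γ)
      (((PJ F₂).subgroupOf Γ).map (MulAut.conj (sB F₂)).toMonoidHom) i).2,
    hco, rfl, fun h => hne h.symm, hcore hsimple, rfl, rfl, fun i => rfl, fun i => rfl, ?_, ?_⟩
  · refine (key 6).trans ?_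
    unfold VG
    rw [VL_succ, UL_eq_bot _ 7 le_rfl]
    exact Subgroup.bot_subgroupOf _
  · intro h'
    have h := (key 5).symm.trans h'
    unfold VG at h
    rw [VL_succ] at h
    have hx : (⟨xGL chevE8 F₂ 239 1, xGL_mem_group' chevE8 hE8 239 1⟩ : ↥Γ) ∈ (UL F₂ 6).subgroupOf Γ :=
      xGL_mem_UL F₂ 239 (by decide) 6 (by rw [lev_highest]; norm_num) 1
    rw [h, Subgroup.mem_bot] at hx
    have h1 : chevE8.x F₂ 239 1 = 1 := by
      have := congrArg (fun g : ↥Γ => ((g : GL chevE8.Idx F₂) : Matrix chevE8.Idx chevE8.Idx F₂)) hx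
      simpa [xGL_val chevE8 _ (triOK_of_mem chevE8 hE8)] using this
    exact one_ne_zero ((Cfsg.Agent.S1024.result chevE8 hE8 239 (by decide) (1 : F₂)).mp h1)

end Final


end Cfsg.Agent.Helper19.E8C
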