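import Cfsg.Agent.Helper19.E8C.TabP

/-!
# Root tables of `E₈` (S5751): the descent table (split for memory)
-/

set_option autoImplicit false
set_option maxRecDepth 100000

namespace Cfsg.Agent.Helper19.E8C

open Cfsg Cfsg.Lie Cfsg.Agent.Helper18

theorem bot_spec : ∀ m, 2 ≤ m → m ≤ 6 → bot m < chevE8.nroots ∧ lev (bot m) = m ∧
    lev (chevE8.reflectRoot 3 (bot m)) = (m : ℤ) - 1 := by decide +kernel

theorem bot_one : bot 1 = 130 := rfl

/-- descent to the lowest root of the level by reflections in `J` -/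
theorem desc_spec : ∀ r < chevE8.nroots, 1 ≤ lev r → r = bot (lev r).toNat ∨
    (desc r < chevE8.rank ∧ desc r ≠ 3 ∧ chevE8.reflectRoot (desc r) r < r) := by decide +kernel

end Cfsg.Agent.Helper19.E8C
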