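import Cfsg.Agent.Helper19.E8C.Defs

/-!
# Root tables of `E₈` for the level filtration at the branch node (S5751): the tables
-/

set_option autoImplicit false
set_option maxRecDepth 100000

namespace Cfsg.Agent.Helper19.E8C

open Cfsg Cfsg.Lie Cfsg.Agent.Helper18

/-- the lowest root of each level `1, …, 6` -/
def bot (m : ℕ) : ℕ := [0, 130, 152, 194, 214, 224, 235].getD m 0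

/-- for a root of level `≥ 1` other than `bot`, a node `≠ 3` whose reflection lowers the index -/
def descTab : Array ℕ := #[0, 0, 0, 0, 0, 0, 0, 0, 0, 0, 0, 0, 0, 0, 0, 0, 0, 0, 0, 0, 0, 0, 0, 0, 0, 0, 0, 0, 0, 0, 0, 0, 0, 0, 0, 0, 0, 0, 0, 0, 0, 0, 0, 0, 0, 0, 0, 0, 0, 0, 0, 0, 0, 0, 0, 0, 0, 0, 0, 0, 0, 0, 0, 0, 0, 0, 0, 0, 0, 0, 0, 0, 0, 0, 0, 0, 0, 0, 0, 0, 0, 0, 0, 0, 0, 0, 0, 0, 0, 0, 0, 0, 0, 0, 0, 0, 0, 0, 0, 0, 0, 0, 0, 0, 0, 0, 0, 0, 0, 0, 0, 0, 0, 0, 0, 0, 0, 0, 0, 0, 0, 0, 0, 0, 0, 0, 0, 0, 0, 0, 0, 4, 5, 6, 7, 0, 2, 2, 2, 2, 2, 0, 1, 1, 1, 1, 1, 1, 1, 1, 1, 1, 0, 5, 6, 7, 4, 4, 4, 5, 5, 6, 0, 0, 0, 0, 0, 0, 0, 0, 0, 0, 0, 0, 0, 0, 0, 0, 0, 0, 0, 0, 0, 0, 2, 2, 2, 2, 2, 2, 2, 2, 2,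 2, 0, 6, 7, 5, 5, 6, 4, 4, 4, 5, 1, 1, 1, 1, 1, 1, 1, 1, 1, 1, 0, 7, 6, 5, 4, 2, 2, 2, 2, 2, 0, 1, 0, 0, 0, 0, 0, 0, 2, 0, 1, 0, 4, 5, 6, 7]

def desc (r : ℕ) : ℕ := descTab.getD r 0

/-- a node `j` with the Cartan integer `A_(p_j, r)` odd -/
def joddTab : Array ℕ := #[7, 6, 5, 4, 3, 1, 0, 1, 0, 0, 0, 0, 0, 0, 0, 0, 0, 0, 0, 0, 0, 2, 2, 2, 2, 2, 1, 1, 1, 1, 1, 1, 1, 1, 1, 1, 1, 1, 1, 1, 1, 1, 1, 1, 1, 1, 2, 2, 2, 2, 2, 2, 2, 2, 2, 2, 0, 0, 0, 0, 0, 0, 0, 0, 0, 0, 0, 0, 0, 0, 0, 0, 0, 0, 0, 0, 0, 2, 0, 0, 0, 0, 0, 0, 0, 0, 0, 0, 0, 0, 0, 0, 0, 1, 1, 1, 1, 1, 3, 0, 0, 0, 0, 0, 0, 1, 1, 1, 1, 1, 3, 3, 3, 3, 4, 4, 4, 5, 5, 6, 6, 5, 5, 4, 4, 4, 3, 3, 3, 3, 1, 1, 1, 1, 1, 0, 0, 0, 0, 0, 0, 3, 1, 1, 1,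 1, 1, 0, 0, 0, 0, 0, 0, 0, 0, 0, 0, 0, 0, 0, 0, 0, 2, 0, 0, 0, 0, 0, 0, 0, 0, 0, 0, 0, 0, 0, 0, 0, 0, 0, 0, 0, 0, 0, 2, 2, 2, 2, 2, 2, 2, 2, 2, 2, 1, 1, 1, 1, 1, 1, 1, 1, 1, 1, 1, 1, 1, 1, 1, 1, 1, 1, 1, 1, 2, 2, 2, 2, 2, 0, 0, 0, 0, 0, 0, 0, 0, 0, 0, 0, 0, 0, 1, 0, 1, 3, 4, 5, 6, 7]

def jOdd (r : ℕ) : ℕ := joddTab.getD r 0

end Cfsg.Agent.Helper19.E8C
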