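import Cfsg.Agent.Helper19.E8C.TabR

/-!
# Root tables of `E₈` (S5751): bounds on the level (split for memory)
-/

set_option autoImplicit false
set_option maxRecDepth 100000

namespace Cfsg.Agent.Helper19.E8C

open Cfsg Cfsg.Lie Cfsg.Agent.Helper18

theorem simple_three : chevE8.simple 3 = 130 := by decide +kernel

theorem neg_eq : ∀ r < chevE8.nroots, chevE8.neg r = 239 - r := by decide +kernel

theorem lev_le_six : ∀ r < chevE8.nroots, lev r ≤ 6 := by decide +kernel

theorem lev_highest : lev 239 = 6 := by decide +kernel

theorem lev_simple_three : lev 130 = 1 := by decide +kernel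

end Cfsg.Agent.Helper19.E8C
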