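import Cfsg.Agent.Helper19.E8C.TabD

/-!
# Root tables of `E₈` (S5751): odd Cartan integers (split for memory)
-/

set_option autoImplicit false
set_option maxRecDepth 100000

namespace Cfsg.Agent.Helper19.E8C

open Cfsg Cfsg.Lie Cfsg.Agent.Helper18

theorem jOdd_spec : ∀ r < chevE8.nroots, jOdd r < chevE8.rank ∧ chevE8.cartan (jOdd r) r % 2 = 1 := by
  decide +kernel

end Cfsg.Agent.Helper19.E8C
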