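import Cfsg.Agent.Helper19.E8C.TabL

/-!
# Root tables of `E₈` (S5751): positive level (split for memory)
-/

set_option autoImplicit false
set_option maxRecDepth 100000

namespace Cfsg.Agent.Helper19.E8C

open Cfsg Cfsg.Lie Cfsg.Agent.Helper18

/-- positive level = positive root outside `Φ_J` -/
theorem one_le_lev_iff : ∀ r < chevE8.nroots, (1 ≤ lev r ↔ 120 ≤ r ∧ lev r ≠ 0) := by decide +kernel

end Cfsg.Agent.Helper19.E8C
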