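import Cfsg.Agent.Helper19.E8C.TabB2

/-!
# Root tables of `E₈` (S5751): reflections stay in range (split for memory)
-/

set_option autoImplicit false
set_option maxRecDepth 100000

namespace Cfsg.Agent.Helper19.E8C

open Cfsg Cfsg.Lie Cfsg.Agent.Helper18

theorem reflect_lt : ∀ j < chevE8.rank, ∀ s < chevE8.nroots, chevE8.reflectRoot j s < chevE8.nroots := by
  decide +kernel

end Cfsg.Agent.Helper19.E8C
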